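import Mathlib.AlgebraicGeometry.Morphisms.Immersion
import Mathlib.AlgebraicGeometry.Morphisms.Separated
import Mathlib.AlgebraicGeometry.Morphisms.ClosedImmersion

/-! Separated morphisms which are immersions on a covering by dense opens. -/

set_option autoImplicit false
set_option backward.isDefEq.respectTransparency false

universe u

open CategoryTheory Limits AlgebraicGeometry TopologicalSpace

namespace Groth.Agent.DenseImm

variable {X Y : Scheme.{u}} (f : X ⟶ Y) [IsSeparated f]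

theorem preimage_eq {U : X.Opens} (hd : Dense (U : Set X)) {V : Y.Opens} (hle : U ≤ f ⁻¹ᵁ V)
    (hc : IsClosedImmersion (f.resLE V U hle)) : U = f ⁻¹ᵁ V := by
  have e : X.homOfLE hle ≫ (f ∣_ V) = f.resLE V U hle := rfl
  haveI : IsClosedImmersion (X.homOfLE hle) := by
    haveI : IsClosedImmersion (X.homOfLE hle ≫ (f ∣_ V)) := by rw [e]; exact hc
    exact IsClosedImmersion.of_comp _ (f ∣_ V)
  refine le_antisymm hle fun x hx => ?_
  have hcl : IsClosed (Set.range (X.homOfLE hle)) := (X.homOfLE hle).isClosedEmbedding.isClosed_range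
  have hr : Set.range (X.homOfLE hle) = (f ⁻¹ᵁ V).ι ⁻¹' (U : Set X) := by
    ext p
    refine ⟨?_, fun hp => ⟨⟨p.1, hp⟩, Subtype.ext (congr($(X.homOfLE_ι hle) ⟨p.1, hp⟩))⟩⟩
    rintro ⟨q, rfl⟩
    show (f ⁻¹ᵁ V).ι (X.homOfLE hle q) ∈ U
    rw [← Scheme.Hom.comp_apply, X.homOfLE_ι]
    exact q.2
  have hdense : Dense ((f ⁻¹ᵁ V).ι ⁻¹' (U : Set X)) := hd.preimage (f ⁻¹ᵁ V).ι.isOpenEmbedding.isOpenMap
  have := hdense.closure_eq
  rw [← hr, hcl.closure_eq, hr] at this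
  exact this.ge (Set.mem_univ (⟨x, hx⟩ : ↥(f ⁻¹ᵁ V)))

theorem exists_opens {ι : Type u} (U : ι → X.Opens) (hU : ⨆ i, U i = ⊤) (hd : ∀ i, Dense (U i : Set X))
    (V : ι → Y.Opens) (hle : ∀ i, U i ≤ f ⁻¹ᵁ V i) (hc : ∀ i, IsClosedImmersion (f.resLE (V i) (U i) (hle i))) :
    (∀ i, IsClosedImmersion (f ∣_ V i)) ∧ f ⁻¹ᵁ (⨆ i, V i) = ⊤ := by
  refine ⟨fun i => ?_, ?_⟩
  · have e := preimage_eq f (hd i) (hle i) (hc i)
    haveI := hc i
    haveI : IsIso (X.homOfLE (hle i)) := by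
      rw [show X.homOfLE (hle i) = (X.isoOfEq e).hom from rfl]; infer_instance
    have : IsClosedImmersion (X.homOfLE (hle i) ≫ (f ∣_ V i)) := hc i
    exact (MorphismProperty.cancel_left_of_respectsIso @IsClosedImmersion (X.homOfLE (hle i)) _).1 this
  · rw [Scheme.Hom.preimage_iSup, eq_top_iff, ← hU]
    exact iSup_mono hle

theorem isClosedImmersion_restrict_iSup {ι : Type u} (V : ι → Y.Opens) (h : ∀ i, IsClosedImmersion (f ∣_ V i)) :
    IsClosedImmersion (f ∣_ ⨆ i, V i) := by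
  refine IsZariskiLocalAtTarget.of_iSup_eq_top (P := @IsClosedImmersion) (fun i => (⨆ i, V i).ι ⁻¹ᵁ V i) ?_ fun i => ?_
  · rw [eq_top_iff]
    intro p _
    obtain ⟨i, hi⟩ := Opens.mem_iSup.1 p.2
    exact Opens.mem_iSup.2 ⟨i, hi⟩
  · refine (MorphismProperty.arrow_mk_iso_iff @IsClosedImmersion (morphismRestrictRestrict f (⨆ i, V i) _)).2 ?_
    rw [Scheme.Hom.image_preimage_eq_opensRange_inf, Scheme.Opens.opensRange_ι, inf_eq_right.2 (le_iSup V i)]
    exact h i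

theorem isImmersion_of_dense {ι : Type u} (U : ι → X.Opens) (hU : ⨆ i, U i = ⊤) (hd : ∀ i, Dense (U i : Set X))
    (h : ∀ i, IsImmersion ((U i).ι ≫ f)) : IsImmersion f := by
  choose V hle hc using fun i => exists_resLE f (U i) (h i)
  obtain ⟨h1, h2⟩ := exists_opens f U hU hd V hle hc
  haveI := isClosedImmersion_restrict_iSup f V h1
  haveI : IsIso (f ⁻¹ᵁ ⨆ i, V i).ι := by rw [h2]; exact (inferInstance : IsIso X.topIso.hom)
  have : IsImmersion ((f ⁻¹ᵁ ⨆ i, V i).ι ≫ f) := by rw [← morphismRestrict_ι]; infer_instance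
  exact (MorphismProperty.cancel_left_of_respectsIso @IsImmersion _ f).1 this
where
  exists_resLE {X Y : Scheme.{u}} (f : X ⟶ Y) (U : X.Opens) (h : IsImmersion (U.ι ≫ f)) :
      ∃ (V : Y.Opens) (hle : U ≤ f ⁻¹ᵁ V), IsClosedImmersion (f.resLE V U hle) := by
    refine ⟨(U.ι ≫ f).coborderRange, fun x hx => ?_, ?_⟩
    · exact subset_coborder ⟨⟨x, hx⟩, rfl⟩
    · have e : f.resLE (U.ι ≫ f).coborderRange U (fun x hx => subset_coborder ⟨⟨x, hx⟩, rfl⟩) = (U.ι ≫ f).liftCoborder := by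
        rw [← cancel_mono (U.ι ≫ f).coborderRange.ι, Scheme.Hom.resLE_comp_ι, Scheme.Hom.liftCoborder_ι]
      rw [e]; infer_instance

theorem isOpenImmersion_of_dense {ι : Type u} (U : ι → X.Opens) (hU : ⨆ i, U i = ⊤) (hd : ∀ i, Dense (U i : Set X))
    (h : ∀ i, IsOpenImmersion ((U i).ι ≫ f)) : IsOpenImmersion f := by
  let V : ι → Y.Opens := fun i => ((U i).ι ≫ f).opensRange
  have hle : ∀ i, U i ≤ f ⁻¹ᵁ V i := fun i x hx => ⟨⟨x, hx⟩, rfl⟩
  have hiso : ∀ i, IsIso (f.resLE (V i) (U i) (hle i)) := fun i => by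
    have e : f.resLE (V i) (U i) (hle i) = ((U i).ι ≫ f).isoOpensRange.hom := by
      rw [← cancel_mono (V i).ι, Scheme.Hom.resLE_comp_ι, Scheme.Hom.isoOpensRange_hom_ι]
    rw [e]; infer_instance
  obtain ⟨-, h2⟩ := exists_opens f U hU hd V hle fun i => haveI := hiso i; inferInstance
  have h3 : ∀ i, IsIso (f ∣_ V i) := fun i => by
    have e := preimage_eq f (hd i) (hle i) (haveI := hiso i; inferInstance)
    haveI := hiso i
    haveI : IsIso (X.homOfLE (hle i)) := by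
      rw [show X.homOfLE (hle i) = (X.isoOfEq e).hom from rfl]; infer_instance
    haveI : IsIso (X.homOfLE (hle i) ≫ (f ∣_ V i)) := hiso i
    exact IsIso.of_isIso_comp_left (X.homOfLE (hle i)) _
  haveI : IsIso (f ∣_ ⨆ i, V i) := by
    refine IsZariskiLocalAtTarget.of_iSup_eq_top (P := MorphismProperty.isomorphisms Scheme.{u}) (fun i => (⨆ i, V i).ι ⁻¹ᵁ V i) ?_ fun i => ?_
    · rw [eq_top_iff]
      intro p _
      obtain ⟨i, hi⟩ := Opens.mem_iSup.1 p.2
      exact Opens.mem_iSup.2 ⟨i, hi⟩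
    · refine (MorphismProperty.arrow_mk_iso_iff _ (morphismRestrictRestrict f (⨆ i, V i) _)).2 ?_
      rw [Scheme.Hom.image_preimage_eq_opensRange_inf, Scheme.Opens.opensRange_ι, inf_eq_right.2 (le_iSup V i)]
      exact h3 i
  haveI : IsIso (f ⁻¹ᵁ ⨆ i, V i).ι := by rw [h2]; exact (inferInstance : IsIso X.topIso.hom)
  have : IsOpenImmersion ((f ⁻¹ᵁ ⨆ i, V i).ι ≫ f) := by rw [← morphismRestrict_ι]; infer_instance
  exact (MorphismProperty.cancel_left_of_respectsIso @IsOpenImmersion _ f).1 this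

end Groth.Agent.DenseImm
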